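import Cfsg.Agent.H839.Rad.Base
import Cfsg.Agent.Ly.IndexEq
import Cfsg.Agent.SporRec.LyG2.LyEmb

/-!
# No radical elements of order `5` in the Lyons group (helper493, for S3829)

`⟨a, b, c, d⟩ ≅ G₂(5)` is simple of index prime to `5`.
-/

set_option autoImplicit false

namespace Cfsg.Agent.H493.RadRows

open Subgroup Cfsg.Agent.H839.Rad Cfsg.Agent.SporRec.LyG2

theorem noRad_LyP : NoRad 5 Cfsg.Spor.Ly := by
  intro x hx h1 _
  have hfin : Finite Cfsg.Spor.Ly := Nat.finite_of_card_ne_zero (by rw [Ly.IndexEq.card_ly]; norm_num)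
  have hidx : LyEmb.H.index = 8835156 := by
    have h := LyEmb.H.card_mul_index
    rw [LyEmb.card_H, Ly.IndexEq.card_ly] at h
    omega
  have hs : IsSimpleGroup LyEmb.H := LyEmb.isSimpleGroup_H
  refine false_of_sylow (M := LyEmb.H) (by norm_num) hx h1 ?_ ?_ ?_
  · intro h
    rw [h, index_top] at hidx
    omega
  · rw [hidx]
    norm_num
  · refine RadFree.of_simple (by norm_num) fun hsol => ?_
    have h2 : ∀ a b : LyEmb.H, a * b = b * a := fun a b => by
      have := IsSimpleGroup.comm_iff_isSolvable.2 hsol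
      exact this a b
    have : (Nat.card LyEmb.H).Prime := by
      let _ : CommGroup LyEmb.H := { (inferInstance : Group LyEmb.H) with mul_comm := h2 }
      exact IsSimpleGroup.prime_card
    rw [LyEmb.card_H] at this
    norm_num at this

/-- **Row `Ly`, `p = 5`** -/
theorem noRad_Ly {K : Type*} [Group K] [Finite K] (h : Cfsg.Spor.IsoLy K) : NoRad 5 K := by
  obtain ⟨e⟩ := h
  have hfin : Finite Cfsg.Spor.Ly := Finite.of_equiv K e.toEquiv
  exact NoRad.congr e noRad_LyP

end Cfsg.Agent.H493.RadRows
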